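import Groth.Agent.TorShift.Basic

/-!
# Tor dimension from a flat presentation

Converse dimension shifting: for `0 → K → F → M → 0` with `F` flat, `HasTorDimLE n K` gives
`HasTorDimLE (n + 1) M`; flat modules have tor dimension `0`.
-/

universe u

open CategoryTheory

namespace Groth.Agent.TorAscend

variable {R : Type u} [CommRing R]

theorem exact_resolution {X : ModuleCat.{u} R} (P : ProjectiveResolution X) (j : ℕ) :
    Function.Exact (P.complex.d (j + 2) (j + 1)).hom (P.complex.d (j + 1) j).hom :=
  (ShortComplex.ShortExact.moduleCat_exact_iff_function_exact _).1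
    ((HomologicalComplex.exactAt_iff' _ (j + 2) (j + 1) j (by simp) (by simp)).1 (P.complex_exactAt_succ j))

theorem hasTorDimLE_of_flat (M : Type u) [AddCommGroup M] [Module R M] [Module.Flat R M] (n : ℕ) :
    DRing.HasTorDimLE R n M := by
  intro N _ _ p hp
  obtain ⟨q, rfl⟩ : ∃ q, p = q + 1 := ⟨p - 1, by omega⟩
  let P : ProjectiveResolution (ModuleCat.of R N) := CategoryTheory.projectiveResolution (ModuleCat.of R N)
  exact (TorShift.subsingleton_tor_iff M N P q).2 (Module.Flat.lTensor_exact M (exact_resolution P q))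

variable {K F M : Type u} [AddCommGroup K] [Module R K] [AddCommGroup F] [Module R F] [AddCommGroup M] [Module R M]

/-- Converse dimension shifting. -/
theorem hasTorDimLE_succ_of_exact [Module.Flat R F] {i : K →ₗ[R] F} {π : F →ₗ[R] M} (hi : Function.Injective i)
    (he : Function.Exact i π) (hπ : Function.Surjective π) {n : ℕ} (h : DRing.HasTorDimLE R n K) :
    DRing.HasTorDimLE R (n + 1) M := by
  intro N _ _ p hp
  obtain ⟨q, rfl⟩ : ∃ q, p = q + 2 := ⟨p - 2, by omega⟩
  let P : ProjectiveResolution (ModuleCat.of R N) := CategoryTheory.projectiveResolution (ModuleCat.of R N)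
  haveI hflat : ∀ j, Module.Flat R (P.complex.X j) := fun j =>
    haveI : Module.Projective R (P.complex.X j) := (IsProjective.iff_projective _).2 (P.projective j)
    inferInstance
  have hex := exact_resolution P
  have hKex := (TorShift.subsingleton_tor_iff K N P q).1 (h N (q + 1) (by omega))
  have hFex : Function.Exact ((P.complex.d (q + 3) (q + 2)).hom.lTensor F) ((P.complex.d (q + 2) (q + 1)).hom.lTensor F) :=
    Module.Flat.lTensor_exact F (hex (q + 1))
  have hcomm : ∀ {X Y : Type u} [AddCommGroup X] [Module R X] [AddCommGroup Y] [Module R Y] (g : X →ₗ[R] Y) (j l : ℕ)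
      (z : TensorProduct R X (P.complex.X j)), g.rTensor _ ((P.complex.d j l).hom.lTensor X z) =
        (P.complex.d j l).hom.lTensor Y (g.rTensor _ z) := fun g j l z => by
    rw [← LinearMap.comp_apply, ← LinearMap.comp_apply, LinearMap.rTensor_comp_lTensor, LinearMap.lTensor_comp_rTensor]
  have hd0 : ∀ (X : Type u) [AddCommGroup X] [Module R X] (j : ℕ) (y : TensorProduct R X (P.complex.X (j + 2))),
      (P.complex.d (j + 1) j).hom.lTensor X ((P.complex.d (j + 2) (j + 1)).hom.lTensor X y) = 0 := fun X _ _ j y => by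
    rw [← LinearMap.comp_apply, ← LinearMap.lTensor_comp, (hex j).linearMap_comp_eq_zero, LinearMap.lTensor_zero]
    rfl
  rw [TorShift.subsingleton_tor_iff M N P (q + 1)]
  intro z
  refine ⟨fun hz => ?_, fun ⟨y, hy⟩ => hy ▸ hd0 M (q + 1) y⟩
  obtain ⟨w, rfl⟩ := LinearMap.rTensor_surjective _ hπ z
  obtain ⟨k, hk⟩ := ((rTensor_exact _ he hπ) ((P.complex.d (q + 2) (q + 1)).hom.lTensor F w)).1
    (by rw [hcomm, hz])
  obtain ⟨k', hk'⟩ := (hKex k).1 (by
    apply Module.Flat.rTensor_preserves_injective_linearMap (M := P.complex.X q) i hi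
    rw [hcomm, hk, hd0, map_zero])
  obtain ⟨v, hv⟩ := (hFex (w - i.rTensor _ k')).1 (by rw [map_sub, ← hcomm, hk', hk, sub_self])
  refine ⟨π.rTensor _ v, ?_⟩
  rw [← hcomm, hv, map_sub, ← LinearMap.comp_apply, ← LinearMap.rTensor_comp, he.linearMap_comp_eq_zero,
    LinearMap.rTensor_zero, LinearMap.zero_apply, sub_zero]

end Groth.Agent.TorAscend
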